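import Groth.Agent.Lib.Helper14.FreeAct.Triv

/-!
# Set-theoretically free ⇒ geometrically free (helper14)
-/

set_option autoImplicit false
universe u

open CategoryTheory MonoidalCategory CartesianMonoidalCategory MonObj GrpObj AlgebraicGeometry
open CategoryTheory.Limits Opposite

namespace Groth.Agent.Lib.Helper14.FreeAct

open Groth.Agent.Lib.Helper22

variable {S : Scheme.{u}} {G X : Over S} [GrpObj G] (a : AlgGrp.Action G X)

theorem locallyOfFiniteType_psi [LocallyOfFiniteType G.hom] [LocallyOfFiniteType X.hom] :
    LocallyOfFiniteType (GIT.psi a (𝟙 X)).left := by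
  haveI : LocallyOfFiniteType (G ⊗ X).hom := by
    rw [Over.tensorObj_hom]
    infer_instance
  haveI : LocallyOfFiniteType ((GIT.psi a (𝟙 X)).left ≫ (X ⊗ X).hom) := by
    rw [Over.w]
    infer_instance
  exact locallyOfFiniteType_of_comp _ (X ⊗ X).hom

theorem formallyUnramified_stabπ [FormallyUnramified G.hom] : FormallyUnramified (stabπ a) := by
  haveI : Mono (CartesianMonoidalCategory.lift (𝟙 X) (𝟙 X)) :=
    mono_of_mono_fac (lift_fst (𝟙 X) (𝟙 X))
  haveI : Mono (CartesianMonoidalCategory.lift (𝟙 X) (𝟙 X)).left := inferInstance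
  haveI : Mono (pullback.fst (GIT.psi a (𝟙 X)).left
      (CartesianMonoidalCategory.lift (𝟙 X) (𝟙 X)).left) := inferInstance
  haveI : FormallyUnramified (pullback.fst (GIT.psi a (𝟙 X)).left
      (CartesianMonoidalCategory.lift (𝟙 X) (𝟙 X)).left) := inferInstance
  haveI : FormallyUnramified (snd G X).left := by
    rw [Over.snd_left]
    exact MorphismProperty.pullback_snd _ _ ‹_›
  rw [← stab_fst_snd a]
  exact MorphismProperty.comp_mem _ _ _ ‹_› ‹_›

/-- Set-theoretically free ⇒ geometrically free, in characteristic zero or for unramified `G`. -/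
theorem isIso_fibre_of_universallyInjective (k : Type u) [Field k]
    (G X : Over (Spec (CommRingCat.of k))) [GrpObj G] [LocallyOfFiniteType G.hom]
    [LocallyOfFiniteType X.hom]
    (hG : CharZero k ∨ FormallyUnramified G.hom) (a : AlgGrp.Action G X)
    (hinj : UniversallyInjective (stabπ a)) (x : X.left) :
    IsIso ((stabπ a).fiberToSpecResidueField x) := by
  let xb := X.left.fromSpecResidueField x
  let f : pullback (stabπ a) xb ⟶ Spec (CommRingCat.of (X.left.residueField x)) :=
    pullback.snd (stabπ a) xb
  change IsIso f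
  let σ : Spec (CommRingCat.of (X.left.residueField x)) ⟶ pullback (stabπ a) xb :=
    pullback.lift (xb ≫ unitSec a) (𝟙 _) (by
      rw [Category.assoc, unitSec_snd, Category.comp_id, Category.id_comp])
  have hσ : σ ≫ f = 𝟙 _ := pullback.lift_snd _ _ _
  haveI : UniversallyInjective f := MorphismProperty.pullback_snd _ _ hinj
  have hfinj : Function.Injective f := f.injective
  haveI : Subsingleton (Spec (CommRingCat.of (X.left.residueField x))) :=
    inferInstanceAs (Subsingleton (PrimeSpectrum _))
  haveI : Subsingleton ↥(pullback (stabπ a) xb : Scheme.{u}) := hfinj.subsingleton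
  haveI := locallyOfFiniteType_psi a
  haveI : LocallyOfFiniteType (stabπ a) := MorphismProperty.pullback_snd _ _ ‹_›
  haveI : LocallyOfFiniteType f := MorphismProperty.pullback_snd _ _ ‹_›
  haveI : IsReduced (pullback (stabπ a) xb) := by
    rcases hG with h0 | hur
    · letI : GrpObj (Over.mk f) := stabFibGrpObj a xb
      obtain ⟨φ, -⟩ := Spec.map_surjective (xb ≫ X.hom)
      haveI : CharZero (X.left.residueField x) :=
        charZero_of_injective_ringHom (f := φ.hom) φ.hom.injective
      exact Groth.Agent.Lib.Helper6.CartierReduced.isReduced_of_charZero f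
    · haveI := formallyUnramified_stabπ a
      haveI : FormallyUnramified f := MorphismProperty.pullback_snd _ _ ‹_›
      exact isReduced_of_formallyUnramified_field f
  exact isIso_of_section_of_isReduced f σ hσ hfinj

end Groth.Agent.Lib.Helper14.FreeAct
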