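import Groth.Prelude.Def_W4bk4git07Quot
import Groth.Agent.Lib.Helper22.ActionPts
import Groth.Agent.Lib.Helper11.UnramFib

/-!
# A proper action with trivial stabilizers is free (helper14)

`psi a (𝟙 X) = (σ, p₂) : G ⊗ X ⟶ X ⊗ X`.  If the stabilizer `(G ⊗ X) ×_{X ⊗ X} X ⟶ X` has all
its fibres equal to the residue field spectrum, then it is an isomorphism (a monomorphism with a
section), and then `(σ, p₂)` is a monomorphism; if it is proper it is a closed immersion.
-/

set_option autoImplicit false
universe u

open CategoryTheory MonoidalCategory CartesianMonoidalCategory MonObj GrpObj AlgebraicGeometry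
open CategoryTheory.Limits

namespace Groth.Agent.Lib.Helper14.FreeAct

open Groth.Agent.Lib.Helper22

variable {S : Scheme.{u}} {G X : Over S} [GrpObj G]

/-- `psi a (𝟙 X)` on points: `(g, x) ↦ (g • x, x)`. -/
theorem lift_comp_psi (a : AlgGrp.Action G X) {T : Over S} (g : T ⟶ G) (x : T ⟶ X) :
    CartesianMonoidalCategory.lift g x ≫ GIT.psi a (𝟙 X) =
      CartesianMonoidalCategory.lift (smul a g x) x := by
  unfold GIT.psi
  rw [comp_lift, lift_snd, ← Category.assoc, lift_whiskerLeft, Category.comp_id]
  rfl

/-- The diagonal on points. -/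
theorem comp_diag {T : Over S} (x : T ⟶ X) :
    x ≫ CartesianMonoidalCategory.lift (𝟙 X) (𝟙 X) = CartesianMonoidalCategory.lift x x := by
  rw [comp_lift, Category.comp_id]

/-- The unit section of the stabilizer. -/
noncomputable def unitSec (a : AlgGrp.Action G X) :
    X.left ⟶ pullback (GIT.psi a (𝟙 X)).left (CartesianMonoidalCategory.lift (𝟙 X) (𝟙 X)).left :=
  pullback.lift (CartesianMonoidalCategory.lift (1 : X ⟶ G) (𝟙 X)).left (𝟙 X.left) (by
    rw [← Over.comp_left, lift_comp_psi, pt_one_smul, Category.id_comp])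

theorem unitSec_snd (a : AlgGrp.Action G X) :
    unitSec a ≫ pullback.snd _ _ = 𝟙 X.left := pullback.lift_snd _ _ _

theorem unitSec_fst (a : AlgGrp.Action G X) :
    unitSec a ≫ pullback.fst _ _ = (CartesianMonoidalCategory.lift (1 : X ⟶ G) (𝟙 X)).left :=
  pullback.lift_fst _ _ _

/-- If the stabilizer projection is a monomorphism then `(σ, p₂)` is a monomorphism in `Over S`. -/
theorem mono_psi_of_mono_stab (a : AlgGrp.Action G X)
    (hm : Mono (pullback.snd (GIT.psi a (𝟙 X)).left
      (CartesianMonoidalCategory.lift (𝟙 X) (𝟙 X)).left)) :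
    Mono (GIT.psi a (𝟙 X)) := by
  constructor
  intro T u v huv
  have hu : u = CartesianMonoidalCategory.lift (u ≫ fst G X) (u ≫ snd G X) := by
    ext <;> simp
  have hv : v = CartesianMonoidalCategory.lift (v ≫ fst G X) (v ≫ snd G X) := by
    ext <;> simp
  set g := u ≫ fst G X
  set x := u ≫ snd G X
  set g' := v ≫ fst G X
  set x' := v ≫ snd G X
  rw [hu, hv, lift_comp_psi, lift_comp_psi] at huv
  have hx : x = x' := by
    have := congrArg (· ≫ snd X X) huv
    simpa using this
  have hgx : smul a g x = smul a g' x' := by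
    have := congrArg (· ≫ fst X X) huv
    simpa using this
  rw [← hx] at hgx hv
  -- h = g⁻¹ * g' stabilizes x
  have hst : smul a (g⁻¹ * g') x = x := by
    rw [pt_mul_smul, ← hgx, pt_inv_smul_smul]
  -- the T-point of the stabilizer
  have hcond : (CartesianMonoidalCategory.lift (g⁻¹ * g') x).left ≫ (GIT.psi a (𝟙 X)).left =
      x.left ≫ (CartesianMonoidalCategory.lift (𝟙 X) (𝟙 X)).left := by
    rw [← Over.comp_left, ← Over.comp_left, lift_comp_psi, hst, comp_diag]
  let s := pullback.lift _ _ hcond
  have hs2 : s ≫ pullback.snd _ _ = x.left := pullback.lift_snd _ _ _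
  have hs1 : s ≫ pullback.fst _ _ = (CartesianMonoidalCategory.lift (g⁻¹ * g') x).left :=
    pullback.lift_fst _ _ _
  have hs : s = x.left ≫ unitSec a := by
    rw [← cancel_mono (pullback.snd (GIT.psi a (𝟙 X)).left
      (CartesianMonoidalCategory.lift (𝟙 X) (𝟙 X)).left), hs2, Category.assoc, unitSec_snd,
      Category.comp_id]
  have h1 : (CartesianMonoidalCategory.lift (g⁻¹ * g') x).left =
      (CartesianMonoidalCategory.lift (1 : T ⟶ G) x).left := by
    rw [← hs1, hs, Category.assoc, unitSec_fst, ← Over.comp_left, comp_lift, Category.comp_id,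
      MonObj.comp_one]
  have h2 : CartesianMonoidalCategory.lift (g⁻¹ * g') x =
      CartesianMonoidalCategory.lift (1 : T ⟶ G) x := Over.OverMorphism.ext h1
  have h3 : g⁻¹ * g' = 1 := by
    have := congrArg (· ≫ fst G X) h2
    simpa using this
  have h4 : g = g' := by
    have := inv_mul_eq_one.mp h3
    exact this
  rw [hu, hv, h4]

/-- A proper action all of whose stabilizers are trivial is free. -/
theorem isClosedImmersion_psi (a : AlgGrp.Action G X) (hp : IsProper (GIT.psi a (𝟙 X)).left)
    (htriv : ∀ x : ↥X.left, IsIso ((pullback.snd (GIT.psi a (𝟙 X)).left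
      (CartesianMonoidalCategory.lift (𝟙 X) (𝟙 X)).left).fiberToSpecResidueField x)) :
    IsClosedImmersion (GIT.psi a (𝟙 X)).left := by
  have hm : Mono (pullback.snd (GIT.psi a (𝟙 X)).left
      (CartesianMonoidalCategory.lift (𝟙 X) (𝟙 X)).left) :=
    Groth.Agent.Lib.Helper11.UnramFib.mono_of_fibres_mono _ (fun x => by
      haveI := htriv x
      infer_instance)
  haveI := mono_psi_of_mono_stab a hm
  rw [IsClosedImmersion.iff_isProper_and_mono]
  exact ⟨hp, inferInstance⟩

end Groth.Agent.Lib.Helper14.FreeAct
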