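import Groth.Agent.Lib.Helper14.FreeAct.Main
import Groth.Agent.Lib.Helper14.GrpDimSemi
import Groth.Prelude.Def_GLinSh

/-!
# Upper semicontinuity of the stabilizer dimension (helper14)

The stabilizer `(G ⊗ X) ×_{X ⊗ X} X ⟶ X` is a group scheme over `X`; `GLinSh.stab a f` is its base
change along `f`; hence `x ↦ dim G_x` is upper semicontinuous (`GrpDimSemi.main`).
-/

set_option autoImplicit false
set_option linter.style.haveILetI false
universe u

open CategoryTheory MonoidalCategory CartesianMonoidalCategory MonObj GrpObj AlgebraicGeometry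
open CategoryTheory.Limits Opposite

namespace Groth.Agent.Lib.Helper14.FreeAct

open Groth.Agent.Lib.Helper22

variable {S : Scheme.{u}} {G X : Over S} [GrpObj G] (a : AlgGrp.Action G X)

/-- `psi a f` on points: `(g, t) ↦ (g • f(t), t)`. -/
theorem lift_comp_psi_gen {T W : Over S} (f : T ⟶ X) (g : W ⟶ G) (t : W ⟶ T) :
    CartesianMonoidalCategory.lift g t ≫ GIT.psi a f =
      CartesianMonoidalCategory.lift (smul a g (t ≫ f)) t := by
  unfold GIT.psi
  rw [comp_lift, lift_snd, ← Category.assoc, lift_whiskerLeft]
  rfl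

theorem psi_snd_gen {T : Over S} (f : T ⟶ X) : GIT.psi a f ≫ snd X T = snd G T := by
  unfold GIT.psi
  rw [lift_snd]

theorem psi_fst_id : GIT.psi a (𝟙 X) ≫ fst X X = a.act := by
  unfold GIT.psi
  rw [lift_fst, whiskerLeft_id, Category.id_comp]

theorem comp_act_smul {W : Over S} (m : W ⟶ G ⊗ X) :
    m ≫ a.act = smul a (m ≫ fst G X) (m ≫ snd G X) := by
  rw [smul_def, lift_comp_fst_snd]

/-- The orbit map `psi a f` is the base change of `psi a (𝟙 X)` along `X ◁ f`. -/
theorem isPullback_psi {T : Over S} (f : T ⟶ X) :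
    IsPullback (GIT.psi a f) (G ◁ f) (X ◁ f) (GIT.psi a (𝟙 X)) where
  w := by
    have h1 : GIT.psi a f = CartesianMonoidalCategory.lift
        (smul a (fst G T) (snd G T ≫ f)) (snd G T) := by
      have := lift_comp_psi_gen a f (fst G T) (snd G T)
      rwa [lift_fst_snd, Category.id_comp] at this
    have h2 : G ◁ f = CartesianMonoidalCategory.lift (fst G T) (snd G T ≫ f) := by
      refine CartesianMonoidalCategory.hom_ext _ _ (by simp) (by simp)
    rw [h1, lift_whiskerLeft, h2, lift_comp_psi]
  isLimit' := Nonempty.intro <| PullbackCone.IsLimit.mk _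
    (fun s => CartesianMonoidalCategory.lift (s.snd ≫ fst G X) (s.fst ≫ snd X T))
    (fun s => by
      have hc := s.condition
      have hx : (s.fst ≫ snd X T) ≫ f = s.snd ≫ snd G X := by
        have := congrArg (· ≫ snd X X) hc
        simpa [psi_snd] using this
      have hy : s.fst ≫ fst X T = smul a (s.snd ≫ fst G X) (s.snd ≫ snd G X) := by
        have := congrArg (· ≫ fst X X) hc
        simp only [Category.assoc, whiskerLeft_fst, psi_fst_id] at this
        rw [this, comp_act_smul]
      rw [lift_comp_psi_gen, hx, ← hy, lift_comp_fst_snd])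
    (fun s => by
      have hc := s.condition
      have hx : (s.fst ≫ snd X T) ≫ f = s.snd ≫ snd G X := by
        have := congrArg (· ≫ snd X X) hc
        simpa [psi_snd] using this
      rw [lift_whiskerLeft, hx, lift_comp_fst_snd])
    (fun s m hm₁ hm₂ => by
      refine CartesianMonoidalCategory.hom_ext _ _ ?_ ?_
      · rw [lift_fst, ← hm₂]
        simp
      · rw [lift_snd, ← hm₁, Category.assoc, psi_snd_gen])

/-- `GLinSh.stab a f` is the base change of the stabilizer along `f`. -/
noncomputable def stabIso {T : Over S} (f : T ⟶ X) :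
    GLinSh.stab a f ≅ pullback (stabπ a) f.left := by
  have hA := ((isPullback_psi a f).map (Over.forget S)).flip
  have h1 := IsPullback.of_hasPullback (GIT.psi a f).left
    (CartesianMonoidalCategory.lift f (𝟙 T)).left
  have R1 := h1.paste_horiz hA
  have h2 := IsPullback.of_hasPullback (stabπ a) f.left
  have h3 := IsPullback.of_hasPullback (GIT.psi a (𝟙 X)).left
    (CartesianMonoidalCategory.lift (𝟙 X) (𝟙 X)).left
  have R2 := h2.paste_horiz h3
  have hbot : (CartesianMonoidalCategory.lift f (𝟙 T)).left ≫ ((Over.forget S).map (X ◁ f)) =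
      f.left ≫ (CartesianMonoidalCategory.lift (𝟙 X) (𝟙 X)).left := by
    change (CartesianMonoidalCategory.lift f (𝟙 T)).left ≫ (X ◁ f).left = _
    rw [← Over.comp_left, ← Over.comp_left, lift_whiskerLeft, Category.id_comp, comp_lift,
      Category.comp_id]
  rw [hbot] at R1
  exact R1.isoIsPullback _ _ R2

end Groth.Agent.Lib.Helper14.FreeAct
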