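import Groth.Agent.Lib.Helper14.FreeAct.StabDim

/-!
# Upper semicontinuity of the stabilizer dimension: main theorem (helper14)
-/

set_option autoImplicit false
set_option linter.style.haveILetI false
universe u

open CategoryTheory MonoidalCategory CartesianMonoidalCategory MonObj GrpObj AlgebraicGeometry
open CategoryTheory.Limits Opposite

namespace Groth.Agent.Lib.Helper14.FreeAct

variable {S : Scheme.{u}} {G X : Over S} [GrpObj G] (a : AlgGrp.Action G X)

/-- The stabilizer over `X.left` in its two presentations. -/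
noncomputable def stabOverIso : stabFib a (𝟙 X.left) ≅ Over.mk (stabπ a) :=
  Over.isoMk (asIso (pullback.fst (stabπ a) (𝟙 X.left))) (by
    simp only [asIso_hom, Over.mk_hom]
    rw [pullback.condition, Category.comp_id])

/-- The stabilizer is a group scheme over `X`. -/
noncomputable def stabOverGrpObj : GrpObj (Over.mk (stabπ a)) :=
  letI : GrpObj (stabFib a (𝟙 X.left)) := stabFibGrpObj a (𝟙 X.left)
  GrpObj.ofIso (stabOverIso a)

theorem dim_stab_eq {T : Over S} (f : T ⟶ X) :
    topologicalKrullDim ↥(GLinSh.stab a f) =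
      topologicalKrullDim ↥(pullback (stabπ a) f.left : Scheme.{u}) :=
  IsHomeomorph.topologicalKrullDim_eq _ (Scheme.homeoOfIso (stabIso a f)).isHomeomorph

theorem isClosed_setOf_le_dim_stab [LocallyOfFiniteType G.hom] [LocallyOfFiniteType X.hom]
    (n : WithBot ℕ∞) :
    IsClosed {x : X.left | n ≤ topologicalKrullDim
      (GLinSh.stab a (Over.homMk (X.left.fromSpecResidueField x) rfl :
        Over.mk (X.left.fromSpecResidueField x ≫ X.hom) ⟶ X))} := by
  letI : GrpObj (Over.mk (stabπ a)) := stabOverGrpObj a
  haveI := locallyOfFiniteType_psi a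
  haveI : LocallyOfFiniteType (stabπ a) := MorphismProperty.pullback_snd _ _ ‹_›
  haveI : LocallyOfFiniteType (Over.mk (stabπ a)).hom := ‹LocallyOfFiniteType (stabπ a)›
  have husc := (Groth.Agent.Lib.Helper14.GrpDimSemi.main X.left (Over.mk (stabπ a))).1
  have hdim : ∀ x : X.left, topologicalKrullDim
      (GLinSh.stab a (Over.homMk (X.left.fromSpecResidueField x) rfl :
        Over.mk (X.left.fromSpecResidueField x ≫ X.hom) ⟶ X)) =
      topologicalKrullDim ↥((Over.mk (stabπ a)).hom.base ⁻¹' {x}) := by
    intro x
    rw [dim_stab_eq]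
    exact IsHomeomorph.topologicalKrullDim_eq _ ((stabπ a).fiberHomeo x).isHomeomorph
  simp only [hdim]
  have hopen := (upperSemicontinuous_iff_isOpen_preimage.mp husc) n
  rw [← isOpen_compl_iff]
  convert hopen using 1
  ext x
  simp only [Set.mem_compl_iff, Set.mem_setOf_eq, not_le, Set.mem_preimage, Set.mem_Iio]

end Groth.Agent.Lib.Helper14.FreeAct
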