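import Groth.Agent.Lib.Helper14.FreeAct.Mono

/-!
# The fibres of the stabilizer are group schemes (helper14)

For an action `a` of `G` on `X` (in `Over S`) and a morphism `xb : B' ⟶ X.left`, the base change to
`B'` of the stabilizer `(G ⊗ X) ×_{X ⊗ X} X ⟶ X` represents the group functor
`T ↦ {h : T ⟶ G | h • x_T = x_T}` on `Over B'`; hence it is a group object of `Over B'`.
-/

set_option autoImplicit false
universe u

open CategoryTheory MonoidalCategory CartesianMonoidalCategory MonObj GrpObj AlgebraicGeometry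
open CategoryTheory.Limits Opposite

namespace Groth.Agent.Lib.Helper14.FreeAct

noncomputable section

open Groth.Agent.Lib.Helper22

variable {S : Scheme.{u}} {G X : Over S} [GrpObj G] (a : AlgGrp.Action G X)

/-- The stabilizer projection. -/
abbrev stabπ :
    pullback (GIT.psi a (𝟙 X)).left (CartesianMonoidalCategory.lift (𝟙 X) (𝟙 X)).left ⟶ X.left :=
  pullback.snd _ _

theorem psi_snd : GIT.psi a (𝟙 X) ≫ snd X X = snd G X := by
  unfold GIT.psi
  rw [lift_snd]

theorem stab_fst_snd :
    pullback.fst (GIT.psi a (𝟙 X)).left (CartesianMonoidalCategory.lift (𝟙 X) (𝟙 X)).left ≫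
      (snd G X).left = stabπ a := by
  have h := pullback.condition (f := (GIT.psi a (𝟙 X)).left)
    (g := (CartesianMonoidalCategory.lift (𝟙 X) (𝟙 X)).left)
  have h2 := congrArg (· ≫ (snd X X).left) h
  simp only [Category.assoc, ← Over.comp_left, psi_snd, lift_snd] at h2
  rw [h2]
  exact Category.comp_id _

variable {B' : Scheme.{u}} (xb : B' ⟶ X.left)

/-- A `B'`-scheme regarded as an `S`-scheme through `xb`. -/
abbrev sig (T : Over B') : Over S := Over.mk (T.hom ≫ xb ≫ X.hom)

/-- The base point `x_T`. -/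
def xT (T : Over B') : sig xb T ⟶ X := Over.homMk (T.hom ≫ xb) (by simp [sig])

@[simp] theorem xT_left (T : Over B') : (xT xb T).left = T.hom ≫ xb := rfl

/-- Functoriality of `sig`. -/
def sigMap {T' T : Over B'} (v : T' ⟶ T) : sig xb T' ⟶ sig xb T :=
  Over.homMk v.left (by simp [sig])

@[simp] theorem sigMap_left {T' T : Over B'} (v : T' ⟶ T) : (sigMap xb v).left = v.left := rfl

theorem sigMap_xT {T' T : Over B'} (v : T' ⟶ T) : sigMap xb v ≫ xT xb T = xT xb T' := by
  ext
  simp

theorem sigMap_id (T : Over B') : sigMap xb (𝟙 T) = 𝟙 _ := by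
  ext
  simp

theorem sigMap_comp {T'' T' T : Over B'} (w : T'' ⟶ T') (v : T' ⟶ T) :
    sigMap xb (w ≫ v) = sigMap xb w ≫ sigMap xb v := by
  ext
  simp

/-- The stabilizer subgroup of `x_T`. -/
def stabSub (T : Over B') : Subgroup (sig xb T ⟶ G) where
  carrier := {h | smul a h (xT xb T) = xT xb T}
  mul_mem' := by
    intro h h' hh hh'
    simp only [Set.mem_setOf_eq] at hh hh' ⊢
    rw [pt_mul_smul, hh', hh]
  one_mem' := pt_one_smul a _
  inv_mem' := by
    intro h hh
    simp only [Set.mem_setOf_eq] at hh ⊢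
    conv_lhs => rw [← hh]
    exact pt_inv_smul_smul a h _

theorem mem_stabSub {T : Over B'} (h : sig xb T ⟶ G) :
    h ∈ stabSub a xb T ↔ smul a h (xT xb T) = xT xb T := Iff.rfl

theorem sigMap_mem {T' T : Over B'} (v : T' ⟶ T) {h : sig xb T ⟶ G} (hh : h ∈ stabSub a xb T) :
    sigMap xb v ≫ h ∈ stabSub a xb T' := by
  rw [mem_stabSub] at hh ⊢
  rw [← sigMap_xT xb v, ← comp_smul, hh]

/-- Restriction of stabilizing points. -/
def stabRes {T' T : Over B'} (v : T' ⟶ T) : stabSub a xb T →* stabSub a xb T' where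
  toFun h := ⟨sigMap xb v ≫ h.1, sigMap_mem a xb v h.2⟩
  map_one' := Subtype.ext (MonObj.comp_one _)
  map_mul' h h' := Subtype.ext (MonObj.comp_mul _ _ _)

/-- The stabilizer group functor. -/
def stabFunctor : (Over B')ᵒᵖ ⥤ GrpCat.{u} where
  obj T := GrpCat.of (stabSub a xb T.unop)
  map v := GrpCat.ofHom (stabRes a xb v.unop)
  map_id T := by
    refine GrpCat.hom_ext (MonoidHom.ext fun h => Subtype.ext ?_)
    change sigMap xb (𝟙 T.unop) ≫ h.1 = h.1
    rw [sigMap_id, Category.id_comp]
  map_comp v w := by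
    refine GrpCat.hom_ext (MonoidHom.ext fun h => Subtype.ext ?_)
    change sigMap xb (w.unop ≫ v.unop) ≫ h.1 = sigMap xb w.unop ≫ sigMap xb v.unop ≫ h.1
    rw [sigMap_comp, Category.assoc]

end

end Groth.Agent.Lib.Helper14.FreeAct
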