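import Groth.Agent.Lib.Helper14.FreeAct.StabGrp

/-!
# Representability of the stabilizer functor by the fibre of the stabilizer (helper14)
-/

set_option autoImplicit false
universe u

open CategoryTheory MonoidalCategory CartesianMonoidalCategory MonObj GrpObj AlgebraicGeometry
open CategoryTheory.Limits Opposite

namespace Groth.Agent.Lib.Helper14.FreeAct

noncomputable section

open Groth.Agent.Lib.Helper22

variable {S : Scheme.{u}} {G X : Over S} [GrpObj G] (a : AlgGrp.Action G X)
variable {B' : Scheme.{u}} (xb : B' ⟶ X.left)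

/-- The fibre of the stabilizer over `xb`, as an object of `Over B'`. -/
abbrev stabFib : Over B' := Over.mk (pullback.snd (stabπ a) xb)

/-- The `G ⊗ X`-point attached to a point of the fibre. -/
def ptP {T : Over B'} (t : T ⟶ stabFib a xb) : sig xb T ⟶ G ⊗ X :=
  Over.homMk (t.left ≫ pullback.fst (stabπ a) xb ≫ pullback.fst _ _) (by
    have hw : t.left ≫ pullback.snd (stabπ a) xb = T.hom := Over.w t
    rw [← Over.w (snd G X)]
    simp only [Category.assoc, sig, Over.mk_hom]
    rw [reassoc_of% (stab_fst_snd a), pullback.condition_assoc, reassoc_of% hw])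

theorem ptP_left {T : Over B'} (t : T ⟶ stabFib a xb) :
    (ptP a xb t).left = t.left ≫ pullback.fst (stabπ a) xb ≫ pullback.fst _ _ := rfl

theorem ptP_snd {T : Over B'} (t : T ⟶ stabFib a xb) : ptP a xb t ≫ snd G X = xT xb T := by
  have hw : t.left ≫ pullback.snd (stabπ a) xb = T.hom := Over.w t
  apply Over.OverMorphism.ext
  rw [Over.comp_left, ptP_left, xT_left]
  simp only [Category.assoc]
  rw [stab_fst_snd a, pullback.condition, reassoc_of% hw]

theorem ptP_psi {T : Over B'} (t : T ⟶ stabFib a xb) :
    ptP a xb t ≫ GIT.psi a (𝟙 X) = xT xb T ≫ CartesianMonoidalCategory.lift (𝟙 X) (𝟙 X) := by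
  have hw : t.left ≫ pullback.snd (stabπ a) xb = T.hom := Over.w t
  apply Over.OverMorphism.ext
  rw [Over.comp_left, Over.comp_left, ptP_left, xT_left]
  simp only [Category.assoc]
  rw [pullback.condition, pullback.condition_assoc, reassoc_of% hw]

theorem ptP_eq {T : Over B'} (t : T ⟶ stabFib a xb) :
    ptP a xb t = CartesianMonoidalCategory.lift (ptP a xb t ≫ fst G X) (xT xb T) := by
  ext
  · simp
  · rw [lift_snd, ptP_snd]

theorem ptP_fst_mem {T : Over B'} (t : T ⟶ stabFib a xb) :
    ptP a xb t ≫ fst G X ∈ stabSub a xb T := by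
  rw [mem_stabSub]
  have h := ptP_psi a xb t
  rw [ptP_eq a xb t, lift_comp_psi, comp_diag] at h
  have h2 := congrArg (· ≫ fst X X) h
  simp only [lift_fst] at h2
  exact h2

/-- The underlying scheme morphism of `ofStab`. -/
def ofStabLeft {T : Over B'} (h : sig xb T ⟶ G) (hh : h ∈ stabSub a xb T) :
    T.left ⟶ pullback (stabπ a) xb :=
  pullback.lift
    (pullback.lift (CartesianMonoidalCategory.lift h (xT xb T)).left (xT xb T).left (by
      rw [← Over.comp_left, ← Over.comp_left, lift_comp_psi, (mem_stabSub a xb h).mp hh,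
        comp_diag]))
    T.hom (by rw [pullback.lift_snd]; rfl)

/-- The point of the fibre attached to a stabilizing point. -/
def ofStab {T : Over B'} (h : sig xb T ⟶ G) (hh : h ∈ stabSub a xb T) : T ⟶ stabFib a xb :=
  Over.homMk (ofStabLeft a xb h hh) (pullback.lift_snd _ _ _)

theorem ofStab_left {T : Over B'} (h : sig xb T ⟶ G) (hh : h ∈ stabSub a xb T) :
    (ofStab a xb h hh).left = ofStabLeft a xb h hh := rfl

theorem ofStab_left_fst_fst {T : Over B'} (h : sig xb T ⟶ G) (hh : h ∈ stabSub a xb T) :
    (ofStab a xb h hh).left ≫ pullback.fst (stabπ a) xb ≫ pullback.fst _ _ =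
      (CartesianMonoidalCategory.lift h (xT xb T)).left := by
  rw [ofStab_left]
  unfold ofStabLeft
  rw [pullback.lift_fst_assoc, pullback.lift_fst]

theorem ptP_ofStab {T : Over B'} (h : sig xb T ⟶ G) (hh : h ∈ stabSub a xb T) :
    ptP a xb (ofStab a xb h hh) = CartesianMonoidalCategory.lift h (xT xb T) := by
  apply Over.OverMorphism.ext
  rw [ptP_left, ofStab_left_fst_fst]

theorem ofStab_ptP {T : Over B'} (t : T ⟶ stabFib a xb) :
    ofStab a xb (ptP a xb t ≫ fst G X) (ptP_fst_mem a xb t) = t := by
  have hw : t.left ≫ pullback.snd (stabπ a) xb = T.hom := Over.w t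
  apply Over.OverMorphism.ext
  rw [ofStab_left]
  unfold ofStabLeft
  apply pullback.hom_ext
  · rw [pullback.lift_fst]
    apply pullback.hom_ext
    · rw [pullback.lift_fst, ← ptP_eq a xb t, ptP_left, Category.assoc]
    · rw [pullback.lift_snd, xT_left, Category.assoc, pullback.condition, reassoc_of% hw]
  · rw [pullback.lift_snd, hw]

/-- The fibre of the stabilizer represents the stabilizer functor. -/
def stabRep : (stabFunctor a xb ⋙ forget GrpCat).RepresentableBy (stabFib a xb) where
  homEquiv {T} :=
    { toFun := fun t => (⟨ptP a xb t ≫ fst G X, ptP_fst_mem a xb t⟩ : stabSub a xb T)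
      invFun := fun h => ofStab a xb (h : stabSub a xb T).1 h.2
      left_inv := fun t => ofStab_ptP a xb t
      right_inv := fun h => by
        apply Subtype.ext
        change ptP a xb (ofStab a xb (h : stabSub a xb T).1 h.2) ≫ fst G X = _
        rw [ptP_ofStab, lift_fst] }
  homEquiv_comp {T' T} v t := by
    apply Subtype.ext
    change ptP a xb (v ≫ t) ≫ fst G X = sigMap xb v ≫ ptP a xb t ≫ fst G X
    rw [← Category.assoc]
    congr 1

/-- The fibre of the stabilizer is a group object. -/
def stabFibGrpObj : GrpObj (stabFib a xb) :=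
  GrpObj.ofRepresentableBy _ (stabFunctor a xb) (stabRep a xb)

end

end Groth.Agent.Lib.Helper14.FreeAct
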