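import Groth.Agent.Lib.Helper14.FreeAct.StabRep
import Groth.Agent.Lib.Helper6.CartierReduced

/-!
# Set-theoretically free actions are geometrically free (helper14)

In characteristic zero (Cartier) or for finite étale `G`.
-/

set_option autoImplicit false
universe u

open CategoryTheory MonoidalCategory CartesianMonoidalCategory MonObj GrpObj AlgebraicGeometry
open CategoryTheory.Limits Opposite

namespace Groth.Agent.Lib.Helper14.FreeAct

open Groth.Agent.Lib.Helper22

/-- A reduced scheme injecting into a one-point scheme with a section is isomorphic to it. -/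
theorem isIso_of_section_of_isReduced {Z W : Scheme.{u}} [Subsingleton W] (f : Z ⟶ W) (σ : W ⟶ Z)
    (hσ : σ ≫ f = 𝟙 W) [IsReduced Z] (hinj : Function.Injective f) : IsIso f := by
  haveI := isClosedImmersion_of_comp_eq_id f σ hσ
  haveI : Surjective σ := ⟨fun z => ⟨f z, hinj (by
    have := congrArg (fun g => g (f z)) (congrArg (fun g => (g.base : W → W)) hσ)
    simpa using this)⟩⟩
  haveI := isIso_of_isClosedImmersion_of_surjective σ
  have : f = inv σ := by
    rw [← cancel_epi σ, hσ, IsIso.hom_inv_id]
  rw [this]
  infer_instance

/-- A scheme with at most one point, locally of finite type and formally unramified over a field,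
is reduced. -/
theorem isReduced_of_formallyUnramified_field {Z : Scheme.{u}} {κ : Type u}
    [Field κ] (f : Z ⟶ Spec (CommRingCat.of κ)) [Subsingleton Z] [LocallyOfFiniteType f]
    [FormallyUnramified f] : IsReduced Z := by
  haveI : IsAffine Z := inferInstance
  obtain ⟨φ, hφ⟩ := Spec.map_surjective (Z.isoSpec.inv ≫ f)
  have h1 : FormallyUnramified (Spec.map φ) := by
    rw [hφ]
    exact (MorphismProperty.cancel_left_of_respectsIso @FormallyUnramified _ _).mpr inferInstance
  have h2 : LocallyOfFiniteType (Spec.map φ) := by
    rw [hφ]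
    exact (MorphismProperty.cancel_left_of_respectsIso @LocallyOfFiniteType _ _).mpr inferInstance
  have h1' : φ.hom.FormallyUnramified :=
    (HasRingHomProperty.Spec_iff (P := @FormallyUnramified)).mp h1
  have h2' : φ.hom.FiniteType :=
    (HasRingHomProperty.Spec_iff (P := @LocallyOfFiniteType)).mp h2
  algebraize [φ.hom]
  haveI : _root_.IsReduced Γ(Z, ⊤) :=
    Algebra.FormallyUnramified.isReduced_of_field (K := κ) (A := Γ(Z, ⊤))
  haveI : IsReduced (Spec Γ(Z, ⊤)) := inferInstance
  exact isReduced_of_isOpenImmersion Z.isoSpec.hom

end Groth.Agent.Lib.Helper14.FreeAct
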